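import Cfsg.Agent.KZ.TF.W1
import Cfsg.Agent.Prune
set_option linter.all false
prune_inst 0x7f00000000000000000000000000000000000000000000000000000000000000000000000000000000000000000000000000000000000000000000000000000000000000000000000000000000000000003fffffffffffffffffffffffffffbeffbdffffffff
open scoped Cfsg.Agent.FastGrp

/-!
# KZ, `²F₄` : the five types of Levi subgroups, data and finite checks (helper12)

`J = 0` is the set `{0, 3}` of simple roots, `J = 1` is `{1, 2}`.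
-/

set_option autoImplicit false

namespace Cfsg.Agent.KZ.TF.Mix

open Cfsg Cfsg.Agent.KZ.DatX Cfsg.Agent.KZ.McX Matrix

/-- words -/
abbrev Wd : Type := List (Fin 4)

/-- the value at a regular vector -/
def ev (L : Wd) : List ℤ := app rowsF4 L [1, 1, 1, 1]

/-- the parabolic subgroup of a type -/
def Jt : Fin 5 → Fin 2 := ![0, 0, 1, 1, 1]

/-- the types -/
def w1 : Fin 5 → Wd := ![[], [1, 0, 2, 1, 2, 3, 2, 1, 0, 2, 1], [], [0, 1, 2, 1, 0, 3, 2, 1, 0, 2, 1, 3, 2, 1, 0], [0, 1, 2, 1, 0]]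

/-- the cocharacters of the Levi subgroups -/
def lam : Fin 2 → Fin 4 → ℤ := ![![0, 1, 1, 0], ![1, 0, 0, 1]]

/-- the longest elements -/
def wJ : Fin 2 → Wd := ![[0, 3], [1, 2, 1, 2]]

/-- the first fundamental weight outside `J` -/
def xa : Fin 2 → Fin 4 → ℤ := ![![3, 6, 4, 2], ![2, 3, 2, 1]]

/-- the second fundamental weight outside `J` -/
def xb : Fin 2 → Fin 4 → ℤ := ![![4, 8, 6, 3], ![2, 4, 3, 2]]

/-- the first coroot outside `J` -/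
def ya : Fin 2 → Fin 4 → ℤ := ![![-1, 2, -2, 0], ![2, -1, 0, 0]]

/-- the second coroot outside `J` -/
def yb : Fin 2 → Fin 4 → ℤ := ![![0, -1, 2, -1], ![0, 0, -1, 2]]

/-- the preimages of `2 • lam` -/
def ys : Fin 5 → Fin 4 → ℤ := ![![0, 1, 2, 0], ![0, 7, -10, 0], ![1, 0, 0, 2], ![1, 0, 0, -4], ![3, 0, 0, -2]]

/-- the action on the quotient -/
def b0 : Fin 5 → ℤ × ℤ × ℤ × ℤ := ![(0, 1, 2, 0), (4, -3, 6, -4), (0, 1, 2, 0), (0, -1, 2, -2), (2, -1, 2, 0)]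

/-- the representatives of the twisted classes of the parabolic subgroups -/
def rp : Fin 2 → Fin 3 → Wd := ![![[], [0], [0]], ![[], [1, 2, 1], [1]]]

/-- the elements of the parabolic subgroups, with conjugating elements and classes -/
def uL : Fin 2 → List (Wd × Wd × Fin 3) :=
  ![[([], [], 0), ([0], [], 1), ([3], [0], 2), ([3, 0], [0], 0)],
    [([], [], 0), ([1], [], 2), ([2], [1], 2), ([2, 1], [2], 0), ([1, 2], [1], 0), ([1, 2, 1], [], 1), ([2, 1, 2], [1], 1),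
      ([2, 1, 2, 1], [2, 1], 0)]]

/-- the classes of the tori -/
def ix : Fin 5 → Fin 3 → Fin 11 := ![![0, 1, 1], ![1, 4, 4], ![0, 2, 3], ![2, 5, 7], ![3, 7, 6]]

/-- the types with a factor `²B₂` -/
def tt : Fin 3 → Fin 5 := ![2, 3, 4]

/-- the conjugations of the involutions to the longest elements -/
def cert : Fin 11 → List (Fin 5 × Wd × Wd) :=
  ![[(0, [], []), (2, [], []), (2, [0, 3], []), (0, [1, 2, 1, 2], []), (0, [1, 2, 1, 0, 2, 3], []), (2, [0, 1, 3, 2, 1, 2], []),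
      (2, [0, 1, 3, 2, 1, 0, 2, 3], []), (0, [1, 2, 1, 0, 2, 1, 3, 2, 1, 2], [])],
    [(0, [], [0]), (1, [1, 2, 1, 0, 2, 1, 3, 2, 1, 0, 2], [])],
    [(2, [], [1, 2, 1]), (3, [0, 1, 2, 3, 2, 1, 0, 2, 3], [])],
    [(2, [], [1]), (4, [0, 1, 2, 3, 2, 1, 0, 2, 3], [])],
    [(1, [2, 1, 0, 3, 2, 1, 0, 2, 1], [0]), (1, [1, 0, 2, 1, 2, 3, 2], [0]), (1, [2, 1, 0], [0]), (1, [2, 1, 2], [0]),
      (1, [1, 0, 2, 1, 0, 2, 3], [0]), (1, [1, 2, 1, 3], [3]), (1, [1, 2, 1, 0, 3, 2], [3]), (1, [2, 1, 2, 3, 2, 1, 0, 2, 1], [0]),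
      (1, [2, 1, 0, 2, 1, 3, 2, 1, 0, 2], [3]), (1, [2, 1, 0, 2, 1, 3, 2, 1], [3]), (1, [1, 2, 1, 0, 3, 2, 1, 0, 2, 1, 3], [0]),
      (1, [1, 2, 1, 0, 2, 1, 2, 3, 2, 1, 0], [0])],
    [(3, [], [1, 2, 1]), (3, [0, 1, 2, 3], [1, 2, 1]), (3, [3, 2, 1, 0], [1, 2, 1]), (3, [0, 1, 2, 3, 2, 1], [1, 2, 1]),
      (3, [0, 3, 2, 1, 0, 2], [1, 2, 1]), (3, [0, 1, 2, 3, 2, 1, 0, 2, 3], [2, 1, 2])],
    [(4, [], [1]), (4, [0, 1, 2, 3], [1]), (4, [3, 2, 1, 0], [1]), (4, [0, 1, 2, 3, 2, 1], [1]), (4, [0, 3, 2, 1, 0, 2], [1]),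
      (4, [0, 1, 2, 3, 2, 1, 0, 2, 3], [2])],
    [(4, [], [1, 2, 1]), (3, [0, 1, 2, 3, 2, 1, 0, 2, 3], [2])], [], [], []]

/-- the test for the parabolic subgroups -/
def inU (J : Fin 2) (L : Wd) : Bool := app rowsF4 L (List.ofFn (lam J)) == List.ofFn (lam J)

/-- the scalar product -/
def dv (x y : Fin 4 → ℤ) : ℤ := x 0 * y 0 + x 1 * y 1 + x 2 * y 2 + x 3 * y 3

theorem dv_eq (x y : Fin 4 → ℤ) : dv x y = x ⬝ᵥ y := by rw [dv, dotProduct, Fin.sum_univ_four]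

/-- the images of the columns of `M - 1` in the quotient -/
def zs (J : Fin 2) (M : Matrix (Fin 4) (Fin 4) ℤ) (i : Fin 4) : ℤ × ℤ := (dv (xa J) (M · i) - xa J i, dv (xb J) (M · i) - xb J i)

/-- the action on the quotient -/
def bz (b : ℤ × ℤ × ℤ × ℤ) (z : ℤ × ℤ) : ℤ × ℤ := (b.1 * z.1 + b.2.1 * z.2, b.2.2.1 * z.1 + b.2.2.2 * z.2)

/-- two vectors span a lattice which contains `384 ℤ ^ 2` -/
def gd (z z' : ℤ × ℤ) : Prop :=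
  z.1 * z'.2 - z.2 * z'.1 ≠ 0 ∧ ∀ t ∈ [z.1, z.2, z'.1, z'.2], 384 * t % (z.1 * z'.2 - z.2 * z'.1) = 0

/-- the vectors and their images -/
def zL (b : ℤ × ℤ × ℤ × ℤ) (z : Fin 4 → ℤ × ℤ) : List (ℤ × ℤ) :=
  [z 0, bz b (z 0), z 1, bz b (z 1), z 2, bz b (z 2), z 3, bz b (z 3)]

/-- the absolute value -/
private noncomputable def ab (X : ℕ) : ℕ := Nat.add (Nat.sub (Wq4.out X) 274877906944) (Nat.sub 274877906944 (Wq4.out X))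

private theorem ab_eq {x : ℤ} {X A : ℕ} (h : Wq4.R x X A) (hA : A ≤ 274877906944) : ab X = x.natAbs := by
  have e : ab X = Wq4.out X - 274877906944 + (274877906944 - Wq4.out X) := rfl
  have h1 := h.out hA
  omega

/-- a conjunction -/
private noncomputable def gB (e a b c d : Bool) : Bool := Bool.rec (Bool.rec false (Bool.rec false (Bool.rec false d c) b) a) false e

private theorem gB_spec : ∀ e a b c d : Bool, gB e a b c d = true → e = false ∧ a = true ∧ b = true ∧ c = true ∧ d = true := by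
  decide

/-- the test for `gd` -/
private noncomputable def gE (E A B C D : ℕ) : Bool :=
  gB (Nat.beq E 0) (Nat.beq (Nat.mod (Nat.mul 384 (ab A)) E) 0) (Nat.beq (Nat.mod (Nat.mul 384 (ab B)) E) 0)
    (Nat.beq (Nat.mod (Nat.mul 384 (ab C)) E) 0) (Nat.beq (Nat.mod (Nat.mul 384 (ab D)) E) 0)

/-- the test for `gd` -/
private noncomputable def gN (A B C D : ℕ) : Bool := gE (ab (Nat.add (Nat.mul A D) (Nat.mul 1099511627688 (Nat.mul B C)))) A B C D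

private theorem gd_of {z z' : ℤ × ℤ} {A B C D : ℕ} (ha : Wq4.R z.1 A 80000) (hb : Wq4.R z.2 B 80000) (hc : Wq4.R z'.1 C 80000)
    (hd : Wq4.R z'.2 D 80000) (h : gN A B C D = true) : gd z z' := by
  have e := ab_eq ((ha.mul hd).sub (hb.mul hc)) (by decide)
  have k : ∀ {t : ℤ} {T : ℕ}, Wq4.R t T 80000 → Nat.beq (Nat.mod (Nat.mul 384 (ab T)) (z.1 * z'.2 - z.2 * z'.1).natAbs) 0 = true →
      384 * t % (z.1 * z'.2 - z.2 * z'.1) = 0 := fun {t T} ht h => by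
    rw [ab_eq ht (by decide)] at h
    exact Int.emod_eq_zero_of_dvd (Int.natAbs_dvd_natAbs.1 ((Nat.dvd_of_mod_eq_zero (Nat.eq_of_beq_eq_true h)).trans
      (Int.natAbs_mul 384 t).symm.dvd))
  delta gN gE at h
  rw [e] at h
  obtain ⟨e0, e1, e2, e3, e4⟩ := gB_spec _ _ _ _ _ h
  refine ⟨fun e5 => Nat.ne_of_beq_eq_false e0 (Int.natAbs_eq_zero.2 e5), ?_⟩
  exact List.forall_mem_cons.2 ⟨k ha e1, List.forall_mem_cons.2 ⟨k hb e2, List.forall_mem_cons.2 ⟨k hc e3,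
    List.forall_mem_cons.2 ⟨k hd e4, fun _ h => nomatch h⟩⟩⟩⟩

private theorem mono {x : ℤ} {X : ℕ} (h : Wq4.R x X 4000) : Wq4.R x X 80000 := ⟨h.1.trans (by decide), h.2⟩

/-- a linear form -/
private noncomputable def lN (A B P Q : ℕ) : ℕ := Nat.add (Nat.mul A P) (Nat.mul B Q)

private theorem lN_R {a b p q : ℤ} {A B P Q : ℕ} (ha : Wq4.R a A 10) (hb : Wq4.R b B 10) (hp : Wq4.R p P 4000)
    (hq : Wq4.R q Q 4000) : Wq4.R (a * p + b * q) (lN A B P Q) 80000 := (ha.mul hp).add (hb.mul hq)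

/-- a linear form -/
private noncomputable def zN (a b c d e n : ℕ) : ℕ :=
  Nat.add (Nat.add (Nat.add (Nat.add (Nat.mul a (Wq4.dN n 1)) (Nat.mul b (Wq4.dN n 256))) (Nat.mul c (Wq4.dN n 65536)))
    (Nat.mul d (Wq4.dN n 16777216))) (Nat.mul 1099511627688 e)

private theorem zN_R (a b c d e n : ℕ) (h : a * 156 + b * 156 + c * 156 + d * 156 + e ≤ 4000) :
    Wq4.R (a * Wq4.dg n 1 + b * Wq4.dg n 256 + c * Wq4.dg n 65536 + d * Wq4.dg n 16777216 - e) (zN a b c d e n) 4000 :=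
  have k := (((((Wq4.R.nat a).mul (.dg n 1)).add ((Wq4.R.nat b).mul (.dg n 256))).add ((Wq4.R.nat c).mul (.dg n 65536))).add
    ((Wq4.R.nat d).mul (.dg n 16777216))).sub (Wq4.R.nat e)
  ⟨k.1.trans h, k.2⟩

private theorem rm4 : Wq4.R (-4) 1099511627685 10 := ⟨by decide, by decide⟩

private theorem rm3 : Wq4.R (-3) 1099511627686 10 := ⟨by decide, by decide⟩

private theorem rm2 : Wq4.R (-2) 1099511627687 10 := ⟨by decide, by decide⟩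

private theorem rm1 : Wq4.R (-1) 1099511627688 10 := ⟨by decide, by decide⟩

private theorem r0 : Wq4.R 0 0 10 := ⟨by decide, by decide⟩

private theorem r1 : Wq4.R 1 1 10 := ⟨by decide, by decide⟩

private theorem r2 : Wq4.R 2 2 10 := ⟨by decide, by decide⟩

private theorem r4 : Wq4.R 4 4 10 := ⟨by decide, by decide⟩

private theorem r6 : Wq4.R 6 6 10 := ⟨by decide, by decide⟩

/-- the test for one type -/
private noncomputable def T0 (P0 Q0 P1 Q1 P2 Q2 P3 Q3 : ℕ) : Prop :=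
  gN P1 Q1 P2 Q2 = true ∨ gN P0 Q0 (lN 0 1 P0 Q0) (lN 2 0 P0 Q0) = true ∨ gN P3 Q3 (lN 0 1 P3 Q3) (lN 2 0 P3 Q3) = true ∨ gN P2
  Q2 P3 Q3 = true ∨ gN P1 Q1 (lN 0 1 P1 Q1) (lN 2 0 P1 Q1) = true ∨ gN P2 Q2 (lN 0 1 P2 Q2) (lN 2 0 P2 Q2) = true

private theorem T0_spec {z : Fin 4 → ℤ × ℤ} {P0 Q0 P1 Q1 P2 Q2 P3 Q3 : ℕ}
    (h0 : Wq4.R (z 0).1 P0 4000) (k0 : Wq4.R (z 0).2 Q0 4000) (h1 : Wq4.R (z 1).1 P1 4000) (k1 : Wq4.R (z 1).2 Q1 4000) (h2 :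
    Wq4.R (z 2).1 P2 4000) (k2 : Wq4.R (z 2).2 Q2 4000) (h3 : Wq4.R (z 3).1 P3 4000) (k3 : Wq4.R (z 3).2 Q3 4000) (h : T0 P0 Q0
    P1 Q1 P2 Q2 P3 Q3) :
    ∃ a ∈ zL (0, 1, 2, 0) z, ∃ a' ∈ zL (0, 1, 2, 0) z, gd a a' := by
  rcases h with h | h | h | h | h | h
  · exact ⟨_, (.tail _ (.tail _ (.head _))), _, (.tail _ (.tail _ (.tail _ (.tail _ (.head _))))), gd_of (mono h1) (mono k1)
    (mono h2) (mono k2) h⟩
  · exact ⟨_, (.head _), _, (.tail _ (.head _)), gd_of (mono h0) (mono k0) (lN_R r0 r1 h0 k0) (lN_R r2 r0 h0 k0) h⟩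
  · exact ⟨_, (.tail _ (.tail _ (.tail _ (.tail _ (.tail _ (.tail _ (.head _))))))), _, (.tail _ (.tail _ (.tail _ (.tail _
    (.tail _ (.tail _ (.tail _ (.head _)))))))), gd_of (mono h3) (mono k3) (lN_R r0 r1 h3 k3) (lN_R r2 r0 h3 k3) h⟩
  · exact ⟨_, (.tail _ (.tail _ (.tail _ (.tail _ (.head _))))), _, (.tail _ (.tail _ (.tail _ (.tail _ (.tail _ (.tail _
    (.head _))))))), gd_of (mono h2) (mono k2) (mono h3) (mono k3) h⟩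
  · exact ⟨_, (.tail _ (.tail _ (.head _))), _, (.tail _ (.tail _ (.tail _ (.head _)))), gd_of (mono h1) (mono k1) (lN_R r0 r1
    h1 k1) (lN_R r2 r0 h1 k1) h⟩
  · exact ⟨_, (.tail _ (.tail _ (.tail _ (.tail _ (.head _))))), _, (.tail _ (.tail _ (.tail _ (.tail _ (.tail _ (.head
    _)))))), gd_of (mono h2) (mono k2) (lN_R r0 r1 h2 k2) (lN_R r2 r0 h2 k2) h⟩

/-- the test for one type -/
private noncomputable def T1 (P0 Q0 P1 Q1 P2 Q2 P3 Q3 : ℕ) : Prop :=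
  gN P1 Q1 P2 Q2 = true ∨ gN P0 Q0 (lN 4 1099511627686 P0 Q0) (lN 6 1099511627685 P0 Q0) = true ∨ gN P3 Q3 (lN 4 1099511627686 P3
  Q3) (lN 6 1099511627685 P3 Q3) = true ∨ gN P2 Q2 P3 Q3 = true ∨ gN P1 Q1 (lN 4 1099511627686 P1 Q1) (lN 6 1099511627685 P1 Q1)
  = true ∨ gN P2 Q2 (lN 4 1099511627686 P2 Q2) (lN 6 1099511627685 P2 Q2) = true

private theorem T1_spec {z : Fin 4 → ℤ × ℤ} {P0 Q0 P1 Q1 P2 Q2 P3 Q3 : ℕ}
    (h0 : Wq4.R (z 0).1 P0 4000) (k0 : Wq4.R (z 0).2 Q0 4000) (h1 : Wq4.R (z 1).1 P1 4000) (k1 : Wq4.R (z 1).2 Q1 4000) (h2 :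
    Wq4.R (z 2).1 P2 4000) (k2 : Wq4.R (z 2).2 Q2 4000) (h3 : Wq4.R (z 3).1 P3 4000) (k3 : Wq4.R (z 3).2 Q3 4000) (h : T1 P0 Q0
    P1 Q1 P2 Q2 P3 Q3) :
    ∃ a ∈ zL (4, -3, 6, -4) z, ∃ a' ∈ zL (4, -3, 6, -4) z, gd a a' := by
  rcases h with h | h | h | h | h | h
  · exact ⟨_, (.tail _ (.tail _ (.head _))), _, (.tail _ (.tail _ (.tail _ (.tail _ (.head _))))), gd_of (mono h1) (mono k1)
    (mono h2) (mono k2) h⟩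
  · exact ⟨_, (.head _), _, (.tail _ (.head _)), gd_of (mono h0) (mono k0) (lN_R r4 rm3 h0 k0) (lN_R r6 rm4 h0 k0) h⟩
  · exact ⟨_, (.tail _ (.tail _ (.tail _ (.tail _ (.tail _ (.tail _ (.head _))))))), _, (.tail _ (.tail _ (.tail _ (.tail _
    (.tail _ (.tail _ (.tail _ (.head _)))))))), gd_of (mono h3) (mono k3) (lN_R r4 rm3 h3 k3) (lN_R r6 rm4 h3 k3) h⟩
  · exact ⟨_, (.tail _ (.tail _ (.tail _ (.tail _ (.head _))))), _, (.tail _ (.tail _ (.tail _ (.tail _ (.tail _ (.tail _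
    (.head _))))))), gd_of (mono h2) (mono k2) (mono h3) (mono k3) h⟩
  · exact ⟨_, (.tail _ (.tail _ (.head _))), _, (.tail _ (.tail _ (.tail _ (.head _)))), gd_of (mono h1) (mono k1) (lN_R r4 rm3
    h1 k1) (lN_R r6 rm4 h1 k1) h⟩
  · exact ⟨_, (.tail _ (.tail _ (.tail _ (.tail _ (.head _))))), _, (.tail _ (.tail _ (.tail _ (.tail _ (.tail _ (.head
    _)))))), gd_of (mono h2) (mono k2) (lN_R r4 rm3 h2 k2) (lN_R r6 rm4 h2 k2) h⟩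

/-- the test for one type -/
private noncomputable def T2 (P0 Q0 P1 Q1 P2 Q2 P3 Q3 : ℕ) : Prop :=
  gN P0 Q0 (lN 0 1 P0 Q0) (lN 2 0 P0 Q0) = true ∨ gN P3 Q3 (lN 0 1 P3 Q3) (lN 2 0 P3 Q3) = true

private theorem T2_spec {z : Fin 4 → ℤ × ℤ} {P0 Q0 P1 Q1 P2 Q2 P3 Q3 : ℕ}
    (h0 : Wq4.R (z 0).1 P0 4000) (k0 : Wq4.R (z 0).2 Q0 4000) (h1 : Wq4.R (z 1).1 P1 4000) (k1 : Wq4.R (z 1).2 Q1 4000) (h2 :
    Wq4.R (z 2).1 P2 4000) (k2 : Wq4.R (z 2).2 Q2 4000) (h3 : Wq4.R (z 3).1 P3 4000) (k3 : Wq4.R (z 3).2 Q3 4000) (h : T2 P0 Q0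
    P1 Q1 P2 Q2 P3 Q3) :
    ∃ a ∈ zL (0, 1, 2, 0) z, ∃ a' ∈ zL (0, 1, 2, 0) z, gd a a' := by
  rcases h with h | h
  · exact ⟨_, (.head _), _, (.tail _ (.head _)), gd_of (mono h0) (mono k0) (lN_R r0 r1 h0 k0) (lN_R r2 r0 h0 k0) h⟩
  · exact ⟨_, (.tail _ (.tail _ (.tail _ (.tail _ (.tail _ (.tail _ (.head _))))))), _, (.tail _ (.tail _ (.tail _ (.tail _
    (.tail _ (.tail _ (.tail _ (.head _)))))))), gd_of (mono h3) (mono k3) (lN_R r0 r1 h3 k3) (lN_R r2 r0 h3 k3) h⟩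

/-- the test for one type -/
private noncomputable def T3 (P0 Q0 P1 Q1 P2 Q2 P3 Q3 : ℕ) : Prop :=
  gN (lN 0 1099511627688 P0 Q0) (lN 2 1099511627687 P0 Q0) P3 Q3 = true ∨ gN P0 Q0 (lN 0 1099511627688 P2 Q2) (lN 2 1099511627687
  P2 Q2) = true ∨ gN P3 Q3 (lN 0 1099511627688 P3 Q3) (lN 2 1099511627687 P3 Q3) = true ∨ gN P0 Q0 (lN 0 1099511627688 P0 Q0) (lN
  2 1099511627687 P0 Q0) = true

private theorem T3_spec {z : Fin 4 → ℤ × ℤ} {P0 Q0 P1 Q1 P2 Q2 P3 Q3 : ℕ}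
    (h0 : Wq4.R (z 0).1 P0 4000) (k0 : Wq4.R (z 0).2 Q0 4000) (h1 : Wq4.R (z 1).1 P1 4000) (k1 : Wq4.R (z 1).2 Q1 4000) (h2 :
    Wq4.R (z 2).1 P2 4000) (k2 : Wq4.R (z 2).2 Q2 4000) (h3 : Wq4.R (z 3).1 P3 4000) (k3 : Wq4.R (z 3).2 Q3 4000) (h : T3 P0 Q0
    P1 Q1 P2 Q2 P3 Q3) :
    ∃ a ∈ zL (0, -1, 2, -2) z, ∃ a' ∈ zL (0, -1, 2, -2) z, gd a a' := by
  rcases h with h | h | h | h
  · exact ⟨_, (.tail _ (.head _)), _, (.tail _ (.tail _ (.tail _ (.tail _ (.tail _ (.tail _ (.head _))))))), gd_of (lN_R r0 rm1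
    h0 k0) (lN_R r2 rm2 h0 k0) (mono h3) (mono k3) h⟩
  · exact ⟨_, (.head _), _, (.tail _ (.tail _ (.tail _ (.tail _ (.tail _ (.head _)))))), gd_of (mono h0) (mono k0) (lN_R r0 rm1
    h2 k2) (lN_R r2 rm2 h2 k2) h⟩
  · exact ⟨_, (.tail _ (.tail _ (.tail _ (.tail _ (.tail _ (.tail _ (.head _))))))), _, (.tail _ (.tail _ (.tail _ (.tail _
    (.tail _ (.tail _ (.tail _ (.head _)))))))), gd_of (mono h3) (mono k3) (lN_R r0 rm1 h3 k3) (lN_R r2 rm2 h3 k3) h⟩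
  · exact ⟨_, (.head _), _, (.tail _ (.head _)), gd_of (mono h0) (mono k0) (lN_R r0 rm1 h0 k0) (lN_R r2 rm2 h0 k0) h⟩

/-- the test for one type -/
private noncomputable def T4 (P0 Q0 P1 Q1 P2 Q2 P3 Q3 : ℕ) : Prop :=
  gN P0 Q0 (lN 2 1099511627688 P3 Q3) (lN 2 0 P3 Q3) = true ∨ gN (lN 2 1099511627688 P0 Q0) (lN 2 0 P0 Q0) P2 Q2 = true ∨ gN P3
  Q3 (lN 2 1099511627688 P3 Q3) (lN 2 0 P3 Q3) = true ∨ gN P0 Q0 (lN 2 1099511627688 P0 Q0) (lN 2 0 P0 Q0) = true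

private theorem T4_spec {z : Fin 4 → ℤ × ℤ} {P0 Q0 P1 Q1 P2 Q2 P3 Q3 : ℕ}
    (h0 : Wq4.R (z 0).1 P0 4000) (k0 : Wq4.R (z 0).2 Q0 4000) (h1 : Wq4.R (z 1).1 P1 4000) (k1 : Wq4.R (z 1).2 Q1 4000) (h2 :
    Wq4.R (z 2).1 P2 4000) (k2 : Wq4.R (z 2).2 Q2 4000) (h3 : Wq4.R (z 3).1 P3 4000) (k3 : Wq4.R (z 3).2 Q3 4000) (h : T4 P0 Q0
    P1 Q1 P2 Q2 P3 Q3) :
    ∃ a ∈ zL (2, -1, 2, 0) z, ∃ a' ∈ zL (2, -1, 2, 0) z, gd a a' := by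
  rcases h with h | h | h | h
  · exact ⟨_, (.head _), _, (.tail _ (.tail _ (.tail _ (.tail _ (.tail _ (.tail _ (.tail _ (.head _)))))))), gd_of (mono h0)
    (mono k0) (lN_R r2 rm1 h3 k3) (lN_R r2 r0 h3 k3) h⟩
  · exact ⟨_, (.tail _ (.head _)), _, (.tail _ (.tail _ (.tail _ (.tail _ (.head _))))), gd_of (lN_R r2 rm1 h0 k0) (lN_R r2 r0
    h0 k0) (mono h2) (mono k2) h⟩
  · exact ⟨_, (.tail _ (.tail _ (.tail _ (.tail _ (.tail _ (.tail _ (.head _))))))), _, (.tail _ (.tail _ (.tail _ (.tail _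
    (.tail _ (.tail _ (.tail _ (.head _)))))))), gd_of (mono h3) (mono k3) (lN_R r2 rm1 h3 k3) (lN_R r2 r0 h3 k3) h⟩
  · exact ⟨_, (.head _), _, (.tail _ (.head _)), gd_of (mono h0) (mono k0) (lN_R r2 rm1 h0 k0) (lN_R r2 r0 h0 k0) h⟩

private theorem z0 (x y z u : ℕ) :
    Wq4.R (zs 0 (Wq4.mk x y z u) 0).1 (zN 3 6 4 2 3 x) 4000 ∧ Wq4.R (zs 0 (Wq4.mk x y z u) 0).2 (zN 4 8 6 3 4 x) 4000 ∧ Wq4.R (zs
    0 (Wq4.mk x y z u) 1).1 (zN 3 6 4 2 6 y) 4000 ∧ Wq4.R (zs 0 (Wq4.mk x y z u) 1).2 (zN 4 8 6 3 8 y) 4000 ∧ Wq4.R (zs 0 (Wq4.mk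
    x y z u) 2).1 (zN 3 6 4 2 4 z) 4000 ∧ Wq4.R (zs 0 (Wq4.mk x y z u) 2).2 (zN 4 8 6 3 6 z) 4000 ∧ Wq4.R (zs 0 (Wq4.mk x y z u)
    3).1 (zN 3 6 4 2 2 u) 4000 ∧ Wq4.R (zs 0 (Wq4.mk x y z u) 3).2 (zN 4 8 6 3 3 u) 4000 :=
  ⟨zN_R 3 6 4 2 3 x (by decide), zN_R 4 8 6 3 4 x (by decide), zN_R 3 6 4 2 6 y (by decide), zN_R 4 8 6 3 8 y (by decide), zN_R 3
  6 4 2 4 z (by decide), zN_R 4 8 6 3 6 z (by decide), zN_R 3 6 4 2 2 u (by decide), zN_R 4 8 6 3 3 u (by decide)⟩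

private theorem z1 (x y z u : ℕ) :
    Wq4.R (zs 1 (Wq4.mk x y z u) 0).1 (zN 2 3 2 1 2 x) 4000 ∧ Wq4.R (zs 1 (Wq4.mk x y z u) 0).2 (zN 2 4 3 2 2 x) 4000 ∧ Wq4.R (zs
    1 (Wq4.mk x y z u) 1).1 (zN 2 3 2 1 3 y) 4000 ∧ Wq4.R (zs 1 (Wq4.mk x y z u) 1).2 (zN 2 4 3 2 4 y) 4000 ∧ Wq4.R (zs 1 (Wq4.mk
    x y z u) 2).1 (zN 2 3 2 1 2 z) 4000 ∧ Wq4.R (zs 1 (Wq4.mk x y z u) 2).2 (zN 2 4 3 2 3 z) 4000 ∧ Wq4.R (zs 1 (Wq4.mk x y z u)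
    3).1 (zN 2 3 2 1 1 u) 4000 ∧ Wq4.R (zs 1 (Wq4.mk x y z u) 3).2 (zN 2 4 3 2 2 u) 4000 :=
  ⟨zN_R 2 3 2 1 2 x (by decide), zN_R 2 4 3 2 2 x (by decide), zN_R 2 3 2 1 3 y (by decide), zN_R 2 4 3 2 4 y (by decide), zN_R 2
  3 2 1 2 z (by decide), zN_R 2 4 3 2 3 z (by decide), zN_R 2 3 2 1 1 u (by decide), zN_R 2 4 3 2 2 u (by decide)⟩

/-- the test for one element -/
private def Sb (x y z u l m : ℕ) : Prop :=
  (l = 1684366692 ∨ T0 (zN 3 6 4 2 3 x) (zN 4 8 6 3 4 x) (zN 3 6 4 2 6 y) (zN 4 8 6 3 8 y) (zN 3 6 4 2 4 z) (zN 4 8 6 3 6 z) (zN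
  3 6 4 2 2 u) (zN 4 8 6 3 3 u) ∧ T1 (zN 3 6 4 2 3 x) (zN 4 8 6 3 4 x) (zN 3 6 4 2 6 y) (zN 4 8 6 3 8 y) (zN 3 6 4 2 4 z) (zN 4 8
  6 3 6 z) (zN 3 6 4 2 2 u) (zN 4 8 6 3 3 u)) ∧
  (m = 1701078117 ∨ T2 (zN 2 3 2 1 2 x) (zN 2 4 3 2 2 x) (zN 2 3 2 1 3 y) (zN 2 4 3 2 4 y) (zN 2 3 2 1 2 z) (zN 2 4 3 2 3 z) (zN
  2 3 2 1 1 u) (zN 2 4 3 2 2 u) ∧ T3 (zN 2 3 2 1 2 x) (zN 2 4 3 2 2 x) (zN 2 3 2 1 3 y) (zN 2 4 3 2 4 y) (zN 2 3 2 1 2 z) (zN 2 4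
  3 2 3 z) (zN 2 3 2 1 1 u) (zN 2 4 3 2 2 u) ∧ T4 (zN 2 3 2 1 2 x) (zN 2 4 3 2 2 x) (zN 2 3 2 1 3 y) (zN 2 4 3 2 4 y) (zN 2 3 2 1
  2 z) (zN 2 4 3 2 3 z) (zN 2 3 2 1 1 u) (zN 2 4 3 2 2 u))

private theorem inU0 (L : Wd) : inU 0 L = Nat.beq (Wq4.run L 1684366692) 1684366692 := by
  rw [Bool.eq_iff_iff, Nat.beq_eq]
  exact beq_iff_eq.trans (Wq4.app_iff (L' := []) (a := 0) (b := 1) (c := 1) (d := 0) (by decide) (by decide) (by decide) (by decide))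

private theorem inU1 (L : Wd) : inU 1 L = Nat.beq (Wq4.run L 1701078117) 1701078117 := by
  rw [Bool.eq_iff_iff, Nat.beq_eq]
  exact beq_iff_eq.trans (Wq4.app_iff (L' := []) (a := 1) (b := 0) (c := 0) (d := 1) (by decide) (by decide) (by decide) (by decide))

theorem chk_stab : ∀ L ∈ wordsF4, ∀ τ, inU (Jt τ) L = true ∨
    ∃ z ∈ zL (b0 τ) (zs (Jt τ) (mW L 1)), ∃ z' ∈ zL (b0 τ) (zs (Jt τ) (mW L 1)), gd z z' := by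
  have h : ∀ L ∈ wordsF4, Sb (Wq4.run L 1684300901) (Wq4.run L 1684301156) (Wq4.run L 1684366436) (Wq4.run L 1701078116)
      (Wq4.run L 1684366692) (Wq4.run L 1701078117) := by
    delta Sb T0 T1 T2 T3 T4
    decide +kernel
  intro L hL τ
  rw [Wq4.mW_one]
  have u0 : Wq4.run L 1684366692 = 1684366692 → inU 0 L = true := fun e => (inU0 L).trans (Nat.beq_eq ▸ e)
  have u1 : Wq4.run L 1701078117 = 1701078117 → inU 1 L = true := fun e => (inU1 L).trans (Nat.beq_eq ▸ e)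
  match τ with
  | 0 =>
    exact (h L hL).1.imp u0 fun k => T0_spec (z := zs 0 _) (z0 _ _ _ _).1 (z0 _ _ _ _).2.1 (z0 _ _ _ _).2.2.1 (z0 _ _ _
      _).2.2.2.1 (z0 _ _ _ _).2.2.2.2.1 (z0 _ _ _ _).2.2.2.2.2.1 (z0 _ _ _ _).2.2.2.2.2.2.1 (z0 _ _ _ _).2.2.2.2.2.2.2 k.1
  | 1 =>
    exact (h L hL).1.imp u0 fun k => T1_spec (z := zs 0 _) (z0 _ _ _ _).1 (z0 _ _ _ _).2.1 (z0 _ _ _ _).2.2.1 (z0 _ _ _
      _).2.2.2.1 (z0 _ _ _ _).2.2.2.2.1 (z0 _ _ _ _).2.2.2.2.2.1 (z0 _ _ _ _).2.2.2.2.2.2.1 (z0 _ _ _ _).2.2.2.2.2.2.2 k.2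
  | 2 =>
    exact (h L hL).2.imp u1 fun k => T2_spec (z := zs 1 _) (z1 _ _ _ _).1 (z1 _ _ _ _).2.1 (z1 _ _ _ _).2.2.1 (z1 _ _ _
      _).2.2.2.1 (z1 _ _ _ _).2.2.2.2.1 (z1 _ _ _ _).2.2.2.2.2.1 (z1 _ _ _ _).2.2.2.2.2.2.1 (z1 _ _ _ _).2.2.2.2.2.2.2 k.1
  | 3 =>
    exact (h L hL).2.imp u1 fun k => T3_spec (z := zs 1 _) (z1 _ _ _ _).1 (z1 _ _ _ _).2.1 (z1 _ _ _ _).2.2.1 (z1 _ _ _
      _).2.2.2.1 (z1 _ _ _ _).2.2.2.2.1 (z1 _ _ _ _).2.2.2.2.2.1 (z1 _ _ _ _).2.2.2.2.2.2.1 (z1 _ _ _ _).2.2.2.2.2.2.2 k.2.1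
  | 4 =>
    exact (h L hL).2.imp u1 fun k => T4_spec (z := zs 1 _) (z1 _ _ _ _).1 (z1 _ _ _ _).2.1 (z1 _ _ _ _).2.2.1 (z1 _ _ _
      _).2.2.2.1 (z1 _ _ _ _).2.2.2.2.1 (z1 _ _ _ _).2.2.2.2.2.1 (z1 _ _ _ _).2.2.2.2.2.2.1 (z1 _ _ _ _).2.2.2.2.2.2.2 k.2.2

theorem chk_filter : ∀ J, wordsF4.filter (inU J) = (uL J).map (·.1) := fun J => by
  match J with
  | 0 =>
    rw [funext inU0]
    decide +kernel
  | 1 =>
    rw [funext inU1]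
    decide +kernel

theorem chk_cw : ∀ i, ∀ L ∈ cwL i, ev L = ev [] ∨
    ((ev (L ++ L) = ev [] → mW L 1 = -1 ∨ ∃ x ∈ cert i, ev (x.2.1 ++ L) = ev (wJ (Jt x.1) ++ x.2.1)) ∧
      (ev (L ++ L ++ L) = ev [] → mW (L ++ L) 1 + mW L 1 + 1 = 0)) := by
  have e : ∀ L L', ev L = ev L' ↔ Wq4.run L 1701143909 = Wq4.run L' 1701143909 := fun _ _ => Wq4.one_iff
  simp only [e, Wq4.mW_one, Wq4.run_append]
  decide +kernel

theorem chk_cert : ∀ i, ∀ x ∈ cert i, tcB x.2.1 (wd i) (x.2.2 ++ w1 x.1) = true ∧ inU (Jt x.1) x.2.2 = true := by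
  decide +kernel

theorem chk_uL : ∀ τ, ∀ x ∈ uL (Jt τ), tcB x.2.1 (x.1 ++ w1 τ) (rp (Jt τ) x.2.2 ++ w1 τ) = true ∧ inU (Jt τ) x.2.1 = true ∧
    mW x.1 1 *ᵥ ys τ = ys τ ∧ xa (Jt τ) ᵥ* mW x.1 1 = xa (Jt τ) ∧ xb (Jt τ) ᵥ* mW x.1 1 = xb (Jt τ) := by decide +kernel

theorem chk_ix : ∀ τ t, cp4 (mW (rp (Jt τ) t ++ w1 τ) G4) = cpI (ix τ t) ∧ inU (Jt τ) (rp (Jt τ) t) = true ∧
    (-1 : ℤ) ^ (rp (Jt τ) t).length = ![1, -1, -1] t := by decide +kernel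

theorem chk_ys : ∀ τ, mW (w1 τ) G4 *ᵥ ys τ = (2 : ℤ) • lam (Jt τ) := by decide +kernel

theorem chk_b0 : ∀ τ, xa (Jt τ) ᵥ* mW (w1 τ) G4 = (b0 τ).1 • xa (Jt τ) + (b0 τ).2.1 • xb (Jt τ) ∧
    xb (Jt τ) ᵥ* mW (w1 τ) G4 = (b0 τ).2.2.1 • xa (Jt τ) + (b0 τ).2.2.2 • xb (Jt τ) := by decide +kernel

theorem chk_wJ : ∀ J, (mW (wJ J) 1 + 1) * (1 - vecMulVec (ya J) (xa J) - vecMulVec (yb J) (xb J)) = 0 := by decide +kernel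

theorem chk_tt : ∀ τ, rp (Jt τ) 1 = rp (Jt τ) 2 ∨ ∃ a, τ = tt a := by decide

end Cfsg.Agent.KZ.TF.Mix

private theorem dce_ac04bfdb01fc : _root_.True := by
  try have : _root_.True := by simp only [_root_.Cfsg.Agent.KZ.TF.Mix.dv.eq_1]
  exact _root_.True.intro
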